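import Mathlib
import Groth.Agent.SectChartLib.Alg

/-!
Étale coordinates adapted to a smooth closed subscheme.
-/

set_option autoImplicit false
set_option linter.style.haveILetI false
universe u

open IsLocalRing TensorProduct KaehlerDifferential

namespace Groth.Agent.AdaptCoordLib

variable {A B : Type u} [CommRing A] [CommRing B] [Algebra A B]

/-- The quotient of a local ring by an ideal extended from a smooth quotient is formally smooth. -/
theorem formallySmooth_quotient (J : Ideal B) (q : Ideal B) [q.IsPrime] (Q : Ideal (B ⧸ J)) [Q.IsPrime]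
    (hQ : Q.comap (Ideal.Quotient.mk J) = q) [Algebra.IsSmoothAt A Q] :
    Algebra.FormallySmooth A (Localization.AtPrime q ⧸ J.map (algebraMap B (Localization.AtPrime q))) := by
  let T := Localization.AtPrime q
  let I := J.map (algebraMap B T)
  letI : Algebra (B ⧸ J) (T ⧸ I) := (Ideal.quotientMap I (algebraMap B T) Ideal.le_comap_map).toAlgebra
  haveI : IsScalarTower A (B ⧸ J) (T ⧸ I) := IsScalarTower.of_algebraMap_eq fun a => by
    change algebraMap A (T ⧸ I) a = Ideal.quotientMap I (algebraMap B T) Ideal.le_comap_map (Ideal.Quotient.mk J (algebraMap A B a))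
    rw [Ideal.quotientMap_mk, ← IsScalarTower.algebraMap_apply A B T]
    rfl
  haveI : IsLocalization Q.primeCompl (T ⧸ I) := by
    have h : IsLocalization (q.primeCompl.map (Ideal.Quotient.mk J)) (T ⧸ I) :=
      IsLocalization.of_surjective q.primeCompl T (Ideal.Quotient.mk J) Ideal.Quotient.mk_surjective
        (Ideal.Quotient.mk I) Ideal.Quotient.mk_surjective (RingHom.ext fun b => rfl)
        (by rw [Ideal.mk_ker, Ideal.mk_ker])
    have he : q.primeCompl.map (Ideal.Quotient.mk J) = Q.primeCompl := by
      ext x
      obtain ⟨x, rfl⟩ := Ideal.Quotient.mk_surjective x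
      constructor
      · rintro ⟨y, hy, hyx⟩ hx
        exact hy (hQ ▸ (show Ideal.Quotient.mk J y ∈ Q from hyx ▸ hx))
      · exact fun hx => ⟨x, fun hxq => hx (hQ.symm ▸ hxq : x ∈ Q.comap (Ideal.Quotient.mk J)), rfl⟩
    rw [← he]; exact h
  exact Algebra.FormallySmooth.of_equiv
    ((IsLocalization.algEquiv Q.primeCompl (Localization.AtPrime Q) (T ⧸ I)).restrictScalars A)

/-- Minimal generators of the ideal of a smooth closed subscheme have independent differentials. -/
theorem linearIndependent_differentials (J : Ideal B) (q : Ideal B) [q.IsPrime] [Algebra.IsSmoothAt A q]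
    (Q : Ideal (B ⧸ J)) [Q.IsPrime] (hQ : Q.comap (Ideal.Quotient.mk J) = q) [Algebra.IsSmoothAt A Q]
    (r : ℕ) (g : Fin r → B) (hg : ∀ i, g i ∈ J)
    (hgen : J.map (algebraMap B (Localization.AtPrime q)) =
      Ideal.span (Set.range fun i => algebraMap B (Localization.AtPrime q) (g i)))
    (hmin : r = Module.finrank q.ResidueField (q.ResidueField ⊗[B] J)) :
    LinearIndependent q.ResidueField fun i => (1 : q.ResidueField) ⊗ₜ[Localization.AtPrime q]
      D A (Localization.AtPrime q) (algebraMap B (Localization.AtPrime q) (g i)) := by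
  let T := Localization.AtPrime q
  let k := q.ResidueField
  let I := J.map (algebraMap B T)
  let C := T ⧸ I
  have hJq : J ≤ q := fun x hx => by
    rw [← hQ, Ideal.mem_comap, Ideal.Quotient.eq_zero_iff_mem.2 hx]; exact Q.zero_mem
  have hIm : I ≤ maximalIdeal T :=
    IsLocalRing.le_maximalIdeal fun htop => by
      have := (Ideal.map_mono (f := algebraMap B T) hJq)
      rw [Localization.AtPrime.map_eq_maximalIdeal] at this
      exact (maximalIdeal.isMaximal T).ne_top (top_le_iff.1 (htop ▸ this))
  haveI : Algebra.FormallySmooth A T := ‹Algebra.IsSmoothAt A q›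
  haveI : Algebra.FormallySmooth A C := formallySmooth_quotient J q Q hQ
  have hf : Function.Surjective (algebraMap T C) := Ideal.Quotient.mk_surjective
  obtain ⟨l, hl⟩ := (Algebra.FormallySmooth.iff_split_injection (R := A) hf).1 inferInstance
  have hker : RingHom.ker (algebraMap T C) = I := Ideal.mk_ker
  have hres : ∀ x ∈ I, ∀ v : k ⊗[T] I, x • v = 0 := fun x hx v => by
    rw [← IsScalarTower.algebraMap_smul k x, show algebraMap T k x = 0 from (residue_eq_zero_iff x).2 (hIm hx), zero_smul]
  let χ : (RingHom.ker (algebraMap T C)).Cotangent →ₗ[T] k ⊗[T] I :=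
    Ideal.Cotangent.lift ((TensorProduct.mk T k I 1).comp (Submodule.inclusion hker.le)) fun x y => by
      have h : (Submodule.inclusion hker.le) ⟨(x * y : T), Ideal.mul_mem_left _ _ y.2⟩ = (x : T) • (Submodule.inclusion hker.le y) :=
        Subtype.ext rfl
      show (1 : k) ⊗ₜ[T] _ = 0
      refine (congrArg ((1 : k) ⊗ₜ[T] ·) h).trans ?_
      rw [TensorProduct.tmul_smul]
      exact hres _ (hker.le x.2) _
  let Φ : Ω[T⁄A] →ₗ[T] k ⊗[T] I := χ ∘ₗ l.restrictScalars T ∘ₗ TensorProduct.mk T C Ω[T⁄A] 1
  have hΦ : ∀ x : I, Φ (D A T (x : T)) = 1 ⊗ₜ x := fun x => by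
    have h1 := LinearMap.congr_fun hl ((RingHom.ker (algebraMap T C)).toCotangent ⟨x, hker.ge x.2⟩)
    rw [LinearMap.comp_apply, kerCotangentToTensor_toCotangent, LinearMap.id_apply] at h1
    show χ (l (1 ⊗ₜ D A T (x : T))) = _
    rw [h1, Ideal.Cotangent.lift_toCotangent]
    rfl
  let φ : k ⊗[T] Ω[T⁄A] →ₗ[k] k ⊗[T] I := Φ.liftBaseChange k
  let gI : Fin r → I := fun i => ⟨algebraMap B T (g i), Ideal.mem_map_of_mem _ (hg i)⟩
  refine LinearIndependent.of_comp φ ?_
  have hc : (φ ∘ fun i => (1 : k) ⊗ₜ[T] D A T (algebraMap B T (g i))) = fun i => (1 : k) ⊗ₜ[T] gI i := by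
    funext i
    show φ ((1 : k) ⊗ₜ[T] D A T (gI i : T)) = _
    rw [show φ ((1 : k) ⊗ₜ[T] D A T (gI i : T)) = (1 : k) • Φ (D A T (gI i : T)) from by simp [φ],
      one_smul, hΦ]
  rw [hc]
  refine linearIndependent_of_top_le_span_of_card_le_finrank ?_ ?_
  · have hspanI : Submodule.span T (Set.range gI) = ⊤ := by
      apply Submodule.map_injective_of_injective (f := I.subtype) Subtype.val_injective
      rw [Submodule.map_span, Submodule.map_top, Submodule.range_subtype, ← Set.range_comp]
      exact hgen.symm
    rintro z -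
    induction z using TensorProduct.induction_on with
    | zero => exact Submodule.zero_mem _
    | add a b ha hb => exact Submodule.add_mem _ ha hb
    | tmul c x =>
      rw [show c ⊗ₜ[T] x = c • ((1 : k) ⊗ₜ[T] x) by rw [TensorProduct.smul_tmul', smul_eq_mul, mul_one]]
      refine Submodule.smul_mem _ _ ?_
      have hx : x ∈ Submodule.span T (Set.range gI) := hspanI ▸ trivial
      have h2 := Submodule.apply_mem_span_image_of_mem_span (TensorProduct.mk T k I 1) hx
      rw [← Set.range_comp] at h2
      exact Submodule.span_le_restrictScalars T k _ h2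
  · rw [Fintype.card_fin, hmin]
    let ε : T ⊗[B] J ≃ₗ[T] I := (IsLocalizedModule.isBaseChange q.primeCompl T (Algebra.idealMap T J)).equiv
    exact (((TensorProduct.AlgebraTensorModule.cancelBaseChange B T k k J).symm.trans
      (ε.baseChange T k)).finrank_eq).le

/-- Differentials of sections span the cotangent space at a prime. -/
theorem span_differentials (q : Ideal B) [q.IsPrime] :
    Submodule.span q.ResidueField (Set.range fun b : B => (1 : q.ResidueField) ⊗ₜ[Localization.AtPrime q]
      D A (Localization.AtPrime q) (algebraMap B (Localization.AtPrime q) b)) = ⊤ := by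
  let T := Localization.AtPrime q
  let k := q.ResidueField
  haveI : Algebra.FormallyEtale B T := .of_isLocalization q.primeCompl
  refine top_le_iff.1 ?_
  rintro z -
  obtain ⟨w, rfl⟩ := TensorProduct.mk_surjective T _ k residue_surjective z
  obtain ⟨w, rfl⟩ := (KaehlerDifferential.tensorKaehlerEquivOfFormallyEtale A B T).surjective w
  induction w using TensorProduct.induction_on with
  | zero => rw [map_zero, map_zero]; exact Submodule.zero_mem _
  | add a b ha hb => rw [map_add, map_add]; exact Submodule.add_mem _ ha hb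
  | tmul t w =>
    rw [tensorKaehlerEquivOfFormallyEtale_apply, mapBaseChange_tmul, map_smul, ← IsScalarTower.algebraMap_smul k t]
    refine Submodule.smul_mem _ _ ?_
    have hw : w ∈ Submodule.span B (Set.range (D A B)) := by
      rw [KaehlerDifferential.span_range_derivation]; trivial
    induction hw using Submodule.span_induction with
    | mem w hw =>
      obtain ⟨b, rfl⟩ := hw
      rw [map_D]
      exact Submodule.subset_span ⟨b, rfl⟩
    | zero => rw [map_zero, map_zero]; exact Submodule.zero_mem _
    | add a b _ _ ha hb => rw [map_add, map_add]; exact Submodule.add_mem _ ha hb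
    | smul c a _ ha =>
      rw [map_smul, LinearMap.map_smul_of_tower, ← IsScalarTower.algebraMap_smul k c]
      exact Submodule.smul_mem _ _ ha

/-- Coordinates whose differentials form a basis give an étale map near the point. -/
theorem exists_etale_of_basis [Algebra.FinitePresentation A B] (q : Ideal B) [q.IsPrime] [Algebra.IsSmoothAt A q]
    {σ : Type u} (v : σ → B) (bs : Module.Basis σ q.ResidueField (q.ResidueField ⊗[Localization.AtPrime q] Ω[Localization.AtPrime q⁄A]))
    (hbs : ∀ j, bs j = (1 : q.ResidueField) ⊗ₜ[Localization.AtPrime q]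
      D A (Localization.AtPrime q) (algebraMap B (Localization.AtPrime q) (v j))) :
    ∃ g ∉ q, ∀ f, g ∣ f → ((algebraMap B (Localization.Away f)).comp (MvPolynomial.aeval (R := A) v).toRingHom).Etale := by
  let T := Localization.AtPrime q
  let k := q.ResidueField
  let B₂ := MvPolynomial σ A
  letI : Algebra B₂ B := (MvPolynomial.aeval (R := A) v).toRingHom.toAlgebra
  haveI : IsScalarTower A B₂ B := IsScalarTower.of_algHom (MvPolynomial.aeval (R := A) v)
  haveI : Algebra.EssFiniteType A T := Algebra.EssFiniteType.comp A B T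
  haveI : Finite σ := Module.Finite.finite_basis bs
  let src := ((KaehlerDifferential.mvPolynomialBasis A σ).baseChange T).baseChange k
  have hbij : Function.Bijective ((mapBaseChange A B₂ T).baseChange k) := by
    have h : (mapBaseChange A B₂ T).baseChange k = (src.equiv bs (Equiv.refl σ)).toLinearMap := by
      refine src.ext fun j => ?_
      rw [LinearEquiv.coe_coe, Module.Basis.equiv_apply]
      simp only [src, Module.Basis.baseChange_apply, LinearMap.baseChange_tmul, KaehlerDifferential.mvPolynomialBasis_apply]
      rw [mapBaseChange_tmul, one_smul, map_D, IsScalarTower.algebraMap_apply B₂ B T]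
      rw [Equiv.refl_apply, hbs j]
      congr 4
      exact MvPolynomial.aeval_X _ j
    rw [h]
    exact (src.equiv bs (Equiv.refl σ)).bijective
  haveI := Groth.Agent.SectChartLib.isEtaleAt_of_bijective_baseChange (A := A) (B₂ := B₂) q hbij
  haveI : Algebra.FinitePresentation B₂ B := .of_restrict_scalars_finitePresentation A B₂ B
  obtain ⟨g, hg, he⟩ := Algebra.exists_etale_of_isEtaleAt (R := B₂) q
  refine ⟨g, hg, fun f hf => ?_⟩
  obtain ⟨c, rfl⟩ := hf
  have hfg : Algebra.Etale B₂ (Localization.Away (g * c)) := by
    rw [← Algebra.basicOpen_subset_etaleLocus_iff_etale]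
    exact Set.Subset.trans (SetLike.coe_subset_coe.2 (PrimeSpectrum.basicOpen_mul_le_left g c)) (Algebra.basicOpen_subset_etaleLocus_iff_etale.2 he)
  have h := RingHom.etale_algebraMap.mpr hfg
  rw [IsScalarTower.algebraMap_eq B₂ B (Localization.Away (g * c))] at h
  exact h

end Groth.Agent.AdaptCoordLib
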